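import Cfsg.Agent.CosetCert.Pack

/-! Generated: the facts of the log. -/

namespace Cfsg.Agent.CosetCert.Sp44.Collapse

def factStore : Store := (.leaf 0x40000000000030000000000010000000000000000000000050000100000030000100000020000000000050000000003050000e0000305000010000e030000e0000305000000000e020000e00003050000e00004010000400003050000400003000000300003050000f00003000000f0000f030000f0000e020000f0000e040000f00004040000e0000304000000000101000000000105000010000200000020000005000000000603000060000b000000b0000c040000100006000000200006050000600009000000200009020000100004000000300004030000100003040000000002050000a00009000000900002050000400007030000700000050000300008020000800000050000200005010000500000050000d00000010000d00005030000d00007020000d00008000000900005000000800004000000700003010000f00004010000e00003040000d00002030000c00002020000b00002000000a00002040000900001030000800001020000700001010000600001040000500000030000400000020000300000010000200000000000100000)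

end Cfsg.Agent.CosetCert.Sp44.Collapse
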