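import Cfsg.Agent.CosetCert.Pack

/-! Generated: the justifications. -/

namespace Cfsg.Agent.CosetCert.Sp44.Collapse

def justStore : Store := (.node 1 (.leaf 0xf00003b8000ea06002800001e00003f02000300000f00000201000100000770001c40800500000f48000da04002800007c80003f0200030000eca0003001000180001ee0000100800080003b28000bc04000400007a80001b02000100004ca0000e01000080001e60001000800000000f28000c60003201800000001db0001840005c000018000580000f80005b0001842000380000ed8000be0003000003404042600007a0000fc0005700001c0001d00050a0000fd0000080002b0000840000e80028480007c30000000000700007400104c0003e0000020001f0000360008260001d500003d02000400001a80000101000080000d20000040800000000a800009204000000001e80009c0000a00007a000038000860002500009c0000a008408000014c0000580004800030700006f00001500005800002020213000008c0000801000200003460001140800000001a0000210000820001f8000160a002600013d80002404000000013b00001804000400009b00003c04000000009900001c04000600007700001004000800005c00002604000000013700004604000000005a00000e0400060000f580004c04000600001800000a0400040001158000480400040000160000060400020000b580005004000200001200014800030000010000120001483000580000400000a0000f80004e0800260000b80000780004a0006180001b90000800000600000c040c4c0000a0000010000440c002000017000002000078180038000240000040000d03000600003011a80114901100010b70106e0102500fdc00f9300f4a00f0100eb800e6f00e2600dc700cfa00c8500bfc00b7300afe00a8d00a44009fb009b2009690088700828007b40076b00722006990065100609005c10057900531004e9004a10045900411003c90038100339002f100253001e10018500112000b60005b00000000000000000000000000000000000000000000000000000000000000000000000000000000)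 (.leaf 0xfe0002c810002000007f0001f008000c00003f8000ae04000200001fc000000200000000000124001240012400124001240012400124001240012400124001240012400124001240012400124001240012400124001240012400124001240012400124001240012400124001240012400124001240012400124001240012400124001240012400124001240012400124001240012400124001240012400124001240012400124001240012400124001240012400124001240012400124000db000920004900000))

end Cfsg.Agent.CosetCert.Sp44.Collapse
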